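import Cfsg.Agent.H241.NHTools
import Cfsg.Agent.H513.NilpTh
import Cfsg.Agent.H723.Spor.Th

/-! # Row of the nilpotent Hall cluster: `Th` -/

set_option autoImplicit false
set_option maxRecDepth 100000
set_option linter.unusedSectionVars false

namespace Cfsg.Agent.H865.NH.Th

open Subgroup Cfsg
open Cfsg.Agent.Th.Base Cfsg.Agent.Th.Word Cfsg.Agent.Th.RelWords Cfsg.Agent.Th.PermTab
  Cfsg.Agent.Th.KOracle Cfsg.Agent.Th.KPerm Cfsg.Agent.Th.NineAct Cfsg.Agent.Th.CStruct
  Cfsg.Agent.Th.COracleDef Cfsg.Agent.Th.COracleSound Cfsg.Agent.Th.IndexUpper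
open Cfsg.Agent.KFacts.Th.Mask Cfsg.Agent.KFacts.Th.Struct
open Cfsg.Agent.CpAutTh.Data Cfsg.Agent.CpAutTh.Alt Cfsg.Agent.CpAutTh.RankOne Cfsg.Agent.CpAutTh.Local
  Cfsg.Agent.CpAutTh.Mid Cfsg.Agent.CpAutTh.ThreePerm Cfsg.Agent.CpAutTh.ThreeE
open Cfsg.Agent.BpSpor.ThCent Cfsg.Agent.BpSpor.ThThree
open Cfsg.Agent.ThFive.Five Cfsg.Agent.ThFive
open Cfsg.Agent.H972 Cfsg.Agent.H972.NSm Cfsg.Agent.H513.NilpTools

universe u

/-- a commutator of order 2 in `A6` -/
theorem exists_comm_six : ∃ g m : alternatingGroup (Fin 6), (g * m * g⁻¹ * m⁻¹) ≠ 1 ∧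
    (g * m * g⁻¹ * m⁻¹) * (g * m * g⁻¹ * m⁻¹) = 1 := by
  refine ⟨⟨c[0, 1, 2], Equiv.Perm.mem_alternatingGroup.2 (by decide +kernel)⟩,
    ⟨c[0, 1, 3], Equiv.Perm.mem_alternatingGroup.2 (by decide +kernel)⟩, ?_, ?_⟩ <;> decide +kernel

section Gen

variable {G : Type u} [Group G] {γ : ℕ → G} (h : Ctx γ)
  {f : sub γ isC →* alternatingGroup (Fin 9)} (F : Epi γ f)
include h F

/-- `γ 1` is a commutator in `C(X3) ∩ C(γ 1)` -/
theorem s_mem_comm : sx h c3 ∈ commutator ↥(centralizer ({ev γ X3} : Set G)) := by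
  have hfin := h.fin
  have h2F : Fact (Nat.Prime 2) := ⟨Nat.prime_two⟩
  have e0 : ↥S6 ≃ Fin 6 := (Fintype.equivFinOfCardEq (by rw [Fintype.card_coe, card_S6]))
  let e : alternatingGroup ↥S6 ≃* alternatingGroup (Fin 6) := e0.altCongrHom
  obtain ⟨g, m, hg1, hg2⟩ := exists_comm_six
  -- lifts
  obtain ⟨a, ha⟩ := (psi h c3 f).rangeRestrict_surjective (jj h F (e.symm g))
  obtain ⟨b, hb⟩ := (psi h c3 f).rangeRestrict_surjective (jj h F (e.symm m))
  have hab : (psi h c3 f).rangeRestrict (a * b * a⁻¹ * b⁻¹) = jj h F (e.symm (g * m * g⁻¹ * m⁻¹)) := by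
    simp only [map_mul, map_inv, ha, hb]
  set c := a * b * a⁻¹ * b⁻¹ with hc
  -- `c` has even order
  have h2 : 2 ∣ orderOf c := by
    have h3 : orderOf (g * m * g⁻¹ * m⁻¹) = 2 := orderOf_eq_prime (by rw [pow_two]; exact hg2) hg1
    have h4 : orderOf ((psi h c3 f).rangeRestrict c) = 2 := by
      rw [hab, orderOf_injective _ (jj_inj h F), MulEquiv.orderOf_eq, h3]
    rw [← h4]
    exact orderOf_map_dvd _ c
  obtain ⟨k, hk⟩ := h2
  have hk0 : k ≠ 0 := by
    rintro rfl
    exact (orderOf_pos c).ne' (by rw [hk])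
  have h5 : orderOf (c ^ k) = 2 := by
    rw [orderOf_pow_of_dvd hk0 (by rw [hk]; exact dvd_mul_left _ _), hk]
    exact Nat.mul_div_cancel _ (Nat.pos_of_ne_zero hk0)
  -- it is `s`
  have h6 : ((c ^ k : ↥(centralizer ({sx h c3} : Set _))) : ↥(centralizer ({ev γ X3} : Set G))) = sx h c3 :=
    (sit3 h F).uniq _ (by rw [Subgroup.orderOf_coe, h5]) (mem_centralizer_singleton_iff.1 (c ^ k).2)
  have h7 : ((c : ↥(centralizer ({sx h c3} : Set _))) : ↥(centralizer ({ev γ X3} : Set G))) ∈
      commutator ↥(centralizer ({ev γ X3} : Set G)) := by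
    have h8 := Subgroup.commutator_mem_commutator (G := ↥(centralizer ({ev γ X3} : Set G))) (H₁ := ⊤) (H₂ := ⊤)
      (g₁ := (a : ↥(centralizer ({ev γ X3} : Set G)))) (g₂ := (b : ↥(centralizer ({ev γ X3} : Set G))))
      (mem_top _) (mem_top _)
    rw [commutator_def]
    exact h8
  rw [← h6]
  exact pow_mem h7 k

/-- primes not dividing the order of the centralizer of `X3` -/
theorem not_dvd_three {r : ℕ} (hr : r.Prime)
    (hrC : ¬ r ∣ 92897280) (hr2 : ¬ r * r ∣ 90745943887872000) : ¬ r ∣ Nat.card ↥(centralizer ({ev γ X3} : Set G)) := by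
  have hfin := h.fin
  obtain ⟨N, hN⟩ := (sit3 h F).core
  refine (Cr.of_core hN).not_dvd hr ?_ ?_ (s_mem_comm h F)
  · intro hd
    apply hr2
    rw [← h.card]
    exact hd.trans (card_subgroup_dvd_card _)
  · intro hd
    apply hrC
    rw [← h.cardC, ← h.cent]
    have h3 : (centralizer ({sx h c3} : Set ↥(centralizer ({ev γ X3} : Set G)))).map
        (centralizer ({ev γ X3} : Set G)).subtype ≤ centralizer ({γ 1} : Set G) := by
      rintro _ ⟨y, hy, rfl⟩
      exact mem_centralizer_singleton_iff.2 (congrArg Subtype.val (mem_centralizer_singleton_iff.1 hy))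
    have h4 := card_dvd_of_le h3
    rw [card_map_of_injective (centralizer ({ev γ X3} : Set G)).subtype_injective] at h4
    exact hd.trans h4

end Gen

open Cfsg.Agent.H630.NH Cfsg.Agent.H241.NH Cfsg.Agent.H513.NilpTh

theorem card' : Nat.card Spor.Th = 90745943887872000 := KFacts.Th.Main.ctx.card

theorem fin' : Finite Spor.Th := KFacts.Th.Main.ctx.fin

theorem na {p : ℕ} (hp : ¬ p ∣ 92897280) : Cfsg.Agent.H393.Iso.NA p Spor.Th := by
  have := fin'
  refine Cfsg.Agent.H393.Iso.NA.of_card fun t ht => ?_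
  rw [card_inv ht]
  exact hp

theorem three_big {q : ℕ} (hq : q.Prime) (hd : q ∣ 90745943887872000) (hqC : ¬ q ∣ 92897280)
    (hq2 : ¬ q * q ∣ 90745943887872000) (h3 : 3 ≠ q) : NC 3 q Spor.Th := by
  have := fin'
  obtain ⟨f, F⟩ := CpAutTh.Local.exists_epi KFacts.Th.Main.ctx
  have h1 := not_dvd_three KFacts.Th.Main.ctx F hq hqC hq2
  have h2 := o3 KFacts.Th.Main.ctx F
  rw [Subgroup.orderOf_mk] at h2
  refine nc_of_card (a := 1) hq h3 ⟨1, by rw [pow_one]; exact h2⟩ (by rw [pow_one, card']; exact hd) ?_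
  rw [pow_one]
  exact h1

/-- an element of order 5 and an involution commuting with it -/
theorem exists_five : ∃ x s : Spor.Th, orderOf x = 5 ∧ orderOf s = 2 ∧ x * s = s * x := by
  have := fin'
  have : Fact (Nat.Prime 5) := ⟨by norm_num⟩
  obtain ⟨x, hx⟩ := exists_prime_orderOf_dvd_card' (G := Spor.Th) 5 (by rw [card']; norm_num)
  obtain ⟨s, hs, hsx⟩ := involution x hx
  exact ⟨x, s, hx, hs, hsx.symm⟩

theorem five_big {q : ℕ} (hq : q.Prime) (hd : q ∣ 90745943887872000) (hqC : ¬ q ∣ 92897280)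
    (hq2 : ¬ q * q ∣ 90745943887872000) (h5 : 5 ≠ q) : NC 5 q Spor.Th := by
  have := fin'
  obtain ⟨x, s, hx, -, -⟩ := exists_five
  refine nc_of_card (a := 1) hq h5 ⟨1, by rw [pow_one]; exact hx⟩ (by rw [pow_one, card']; exact hd) ?_
  rw [pow_one]
  exact not_dvd_cent5 hx hq hqC hq2

theorem five_three : NC 5 3 Spor.Th := by
  have := fin'
  obtain ⟨x, s, hx, hs, hxs⟩ := exists_five
  refine nc_of_card (a := 2) (by norm_num) (by norm_num) ⟨1, by rw [pow_one]; exact hx⟩ (by rw [card']; norm_num) ?_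
  exact ThFive.not_nine hx hs hxs

theorem seven {q a : ℕ} (hq : q.Prime) (h7 : 7 ≠ q) (hd : q ^ a ∣ 90745943887872000) (h1 : ¬ q ^ a ∣ 7 * 168)
    (h2 : ¬ q ^ a ∣ 7 * 360) : NC 7 q Spor.Th := by
  have := fin'
  have : Fact (Nat.Prime 7) := ⟨by norm_num⟩
  have : Fact (Nat.Prime 2) := ⟨by norm_num⟩
  obtain ⟨t, ht⟩ := exists_prime_orderOf_dvd_card' (G := Spor.Th) 2 (by rw [card']; norm_num)
  obtain ⟨y, hy⟩ := exists_prime_orderOf_dvd_card' (G := ↥(centralizer ({t} : Set Spor.Th))) 7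
    (by rw [card_inv ht]; norm_num)
  have hyt := mem_centralizer_singleton_iff.1 y.2
  rw [← Subgroup.orderOf_coe] at hy
  refine nc_of_card hq h7 ⟨1, by rw [pow_one]; exact hy⟩ (by rw [card']; exact hd) ?_
  rcases Cfsg.Agent.H723.Spor.Th.card_seven Cfsg.Agent.KFacts.Th.Main.ctx Cfsg.Agent.H723.Spor.Th.hone hy ht
    hyt.symm with h | h <;> rw [h]
  · exact h1
  · exact h2

theorem row : Row Spor.Th := by
  have := fin'
  refine row_of (N := 90745943887872000) (k := 15) card' [3, 5, 7, 13, 19, 31] [3, 5] [13, 19, 31] 7 []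
    ?_ ?_ ?_ ?_ ?_ ?_ ?_ ?_
  · intro q hq
    simp only [List.mem_cons, List.not_mem_nil, or_false] at hq
    rcases hq with rfl | rfl | rfl | rfl | rfl | rfl <;> norm_num
  · norm_num
  · decide
  · exact ab_of_not_cube (by norm_num) (by rw [card']; norm_num)
  · intro p hp q hq hpq
    simp only [List.mem_cons, List.not_mem_nil, or_false] at hp hq
    rcases hp with rfl | rfl
    · rcases hq with rfl | rfl | rfl | rfl | rfl | rfl
      · exact absurd rfl hpq
      · exact five_three.symm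
      · exact (seven (a := 10) (by norm_num) (by norm_num) (by norm_num) (by norm_num) (by norm_num)).symm
      · exact three_big (by norm_num) (by norm_num) (by norm_num) (by norm_num) (by norm_num)
      · exact three_big (by norm_num) (by norm_num) (by norm_num) (by norm_num) (by norm_num)
      · exact three_big (by norm_num) (by norm_num) (by norm_num) (by norm_num) (by norm_num)
    · rcases hq with rfl | rfl | rfl | rfl | rfl | rfl
      · exact five_three
      · exact absurd rfl hpq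
      · exact (seven (a := 3) (by norm_num) (by norm_num) (by norm_num) (by norm_num) (by norm_num)).symm
      · exact five_big (by norm_num) (by norm_num) (by norm_num) (by norm_num) (by norm_num)
      · exact five_big (by norm_num) (by norm_num) (by norm_num) (by norm_num) (by norm_num)
      · exact five_big (by norm_num) (by norm_num) (by norm_num) (by norm_num) (by norm_num)
  · intro r hr
    simp only [List.mem_cons, List.not_mem_nil, or_false] at hr
    rcases hr with rfl | rfl | rfl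
    · exact solv_of_na (by norm_num) (by rw [card']; norm_num) (na (by norm_num))
    · exact solv_of_na (by norm_num) (by rw [card']; norm_num) (na (by norm_num))
    · exact solv_of_na (by norm_num) (by rw [card']; norm_num) (na (by norm_num))
  · intro a ha
    exact absurd ha (by simp)
  · decide

/-- the row `Th` -/
theorem row_th {G : Type*} [Group G] [Finite G] [IsSimpleGroup G] (h : Spor.IsoTh G) : Row G := by
  obtain ⟨e⟩ := h
  exact row.congr e.symm

end Cfsg.Agent.H865.NH.Th
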