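import Cfsg.Agent.H241.NHTools
import Cfsg.Agent.H859.CentC
import Cfsg.Agent.H859.ClassEleven
import Cfsg.Agent.H859.BigNum
import Cfsg.Agent.S5572
import Cfsg.Agent.S5573
import Cfsg.Agent.S1703
import Cfsg.Agent.H337.JankoOfHyp
import Cfsg.Agent.KFacts.J4.Base

/-! # Row of the nilpotent Hall cluster: `J₄` -/

set_option autoImplicit false
open Cfsg Subgroup

namespace Cfsg.Agent.H865.NH.JFour

open Cfsg.Agent.H630.NH Cfsg.Agent.H241.NH

theorem simple : IsSimpleGroup Spor.J4 := Cfsg.Agent.S1703.result.1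

theorem card : Nat.card Spor.J4 = 86775571046077562880 := Cfsg.Agent.S1703.result.2

theorem fin : Finite Spor.J4 := Nat.finite_of_card_ne_zero (by rw [card]; decide)

theorem not_comm : ¬ IsMulCommutative Spor.J4 := by
  have := fin
  have := simple
  intro h
  let _ : CommGroup Spor.J4 := { (inferInstance : Group Spor.J4) with mul_comm := fun a b => h.is_comm.comm a b }
  have h1 := IsSimpleGroup.prime_card (α := Spor.J4)
  rw [card] at h1
  exact absurd h1 (by norm_num)

theorem centralizer_zpowers {G : Type*} [Group G] (x : G) :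
    centralizer ((zpowers x : Subgroup G) : Set G) = centralizer ({x} : Set G) := by
  apply le_antisymm
  · exact centralizer_le (by rw [Set.singleton_subset_iff]; exact mem_zpowers x)
  · intro g hg
    rw [mem_centralizer_singleton_iff] at hg
    rw [mem_centralizer_iff]
    rintro _ ⟨k, rfl⟩
    exact ((show Commute g x from hg).zpow_right k).eq.symm

theorem cent_le_norm {G : Type*} [Group G] (S : Set G) : centralizer S ≤ normalizer S := by
  exact centralizer_le_normalizer S

/-- a 5-element and a 7-element with small centralizers -/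
theorem five_seven : (∃ x : Spor.J4, orderOf x = 5 ∧ Nat.card (centralizer ({x} : Set Spor.J4)) ∣ 26880) ∧
    ∃ x : Spor.J4, orderOf x = 7 ∧ Nat.card (centralizer ({x} : Set Spor.J4)) ∣ 2520 := by
  have := fin
  have := simple
  obtain ⟨t, Q, N, M, H⟩ := Cfsg.Agent.KFacts.J4.Transport.exists_hyp_of_iso (⟨MulEquiv.refl _⟩ : Spor.IsoJ4 Spor.J4)
  have hz := Cfsg.Agent.H337.JankoOfHyp.isOfJankoFourTypeAt H
  have hM : Nat.card Spor.M22 = 443520 := Cfsg.Agent.SporadicA.MathieuRecog.card_M22
  have key : ∀ p : ℕ, p.Prime → p ∣ 443520 → ∃ x : Spor.J4, orderOf x = p ∧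
      zpowers x ≤ centralizer ({t} : Set Spor.J4) := by
    intro p hp hd
    have : Fact p.Prime := ⟨hp⟩
    obtain ⟨π, hπ, -⟩ := H.pi
    have h1 : p ∣ Nat.card (centralizer ({t} : Set Spor.J4)) :=
      (((hM ▸ hd : p ∣ Nat.card Spor.M22).trans (card_dvd_of_surjective π hπ))).trans (card_subgroup_dvd_card M)
    obtain ⟨x, hx⟩ := exists_prime_orderOf_dvd_card' p h1
    exact ⟨x, by rw [Subgroup.orderOf_coe, hx], zpowers_le.2 x.2⟩
  constructor
  · obtain ⟨x, hx, hxt⟩ := key 5 (by norm_num) (by norm_num)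
    refine ⟨x, hx, ?_⟩
    have h := (Cfsg.Agent.S5572.result not_comm t hz (zpowers x) (by rw [Nat.card_zpowers, hx]) hxt).2.2.2
    rw [← centralizer_zpowers]
    have h2 := card_dvd_of_le (cent_le_norm ((zpowers x : Subgroup Spor.J4) : Set Spor.J4))
    rw [h] at h2
    exact h2
  · obtain ⟨x, hx, hxt⟩ := key 7 (by norm_num) (by norm_num)
    refine ⟨x, hx, ?_⟩
    have h := (Cfsg.Agent.S5573.result not_comm t hz (zpowers x) (by rw [Nat.card_zpowers, hx]) hxt).2.2.2
    rw [← centralizer_zpowers]
    have h2 := card_dvd_of_le (cent_le_norm ((zpowers x : Subgroup Spor.J4) : Set Spor.J4))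
    rw [h] at h2
    exact h2

theorem big {p : ℕ} (hp : p.Prime) (hd : p ∣ 86775571046077562880)
    (h : ∀ P : Subgroup Spor.J4, Nat.card P = p → Nat.card (centralizer (P : Set Spor.J4)) = p) :
    ∃ x : Spor.J4, orderOf x = p ∧ Nat.card (centralizer ({x} : Set Spor.J4)) = p := by
  have := fin
  have : Fact p.Prime := ⟨hp⟩
  obtain ⟨x, hx⟩ := exists_prime_orderOf_dvd_card' (G := Spor.J4) p (by rw [card]; exact hd)
  exact ⟨x, hx, by rw [← centralizer_zpowers]; exact h _ (by rw [Nat.card_zpowers, hx])⟩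

theorem solv {p : ℕ} (hp : p.Prime) {x : Spor.J4} (h : Nat.card (centralizer ({x} : Set Spor.J4)) = p) :
    Group.IsSolvable ↥(centralizer ({x} : Set Spor.J4)) := by
  have : Fact p.Prime := ⟨hp⟩
  have := isCyclic_of_prime_card h
  have h1 : IsMulCommutative ↥(centralizer ({x} : Set Spor.J4)) := IsCyclic.isMulCommutative
  exact Group.isSolvable_of_comm fun a b => h1.is_comm.comm a b

/-- the element of order 11 with the large centralizer -/
theorem nc_eleven {q : ℕ} (hq : q.Prime) (hq1 : 11 ≠ q) {a : ℕ} (h : q ^ a ∣ 86775571046077562880)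
    (h' : ¬ q ^ a ∣ 24 * 11 ^ 3) : NC 11 q Spor.J4 := by
  have := fin
  refine nc_of_card hq hq1 (x := Cfsg.Agent.H859.NU.c) ⟨1, by
    rw [pow_one]; exact Cfsg.Agent.H859.ClassEleven.orderOf_c⟩ (card ▸ h) ?_
  have h1 : Nat.card (centralizer ({Cfsg.Agent.H859.NU.c} : Set Spor.J4)) = 24 * 11 ^ 3 :=
    Cfsg.Agent.H859.CentC.card_D
  rw [h1]
  exact h'

theorem nc_three {p c : ℕ} (h : ∃ x : Spor.J4, orderOf x = p ∧ Nat.card (centralizer ({x} : Set Spor.J4)) ∣ c)
    (hp : p ≠ 3) (h' : ¬ 3 ^ 3 ∣ c) : NC 3 p Spor.J4 := by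
  have := fin
  obtain ⟨x, hx, hc⟩ := h
  exact (nc_of_dvd (q := 3) (a := 3) (by norm_num) hp hx (by rw [card]; norm_num) hc h').symm

theorem row : Row Spor.J4 := by
  have := fin
  have h23 := big (p := 23) (by norm_num) (by norm_num) fun P hP => (Cfsg.Agent.H859.BigNum.data23 hP).1
  have h29 := big (p := 29) (by norm_num) (by norm_num) fun P hP => (Cfsg.Agent.H859.BigNum.data29' hP).1
  have h31 := big (p := 31) (by norm_num) (by norm_num) fun P hP => (Cfsg.Agent.H859.BigNum.data31 hP).1
  have h37 := big (p := 37) (by norm_num) (by norm_num) fun P hP => (Cfsg.Agent.H859.BigNum.data37 hP).1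
  have h43 := big (p := 43) (by norm_num) (by norm_num) fun P hP => (Cfsg.Agent.H859.BigNum.data43 hP).1
  have e : ∀ {p : ℕ}, (∃ x : Spor.J4, orderOf x = p ∧ Nat.card (centralizer ({x} : Set Spor.J4)) = p) →
      ∃ x : Spor.J4, orderOf x = p ∧ Nat.card (centralizer ({x} : Set Spor.J4)) ∣ p := fun ⟨x, h1, h2⟩ =>
    ⟨x, h1, h2 ▸ dvd_rfl⟩
  refine row_of (N := 86775571046077562880) (k := 21) card [3, 5, 7, 11, 23, 29, 31, 37, 43] [3, 11]
    [23, 29, 31, 37, 43] 5 [] ?_ ?_ ?_ ?_ ?_ ?_ ?_ ?_
  · intro q hq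
    simp only [List.mem_cons, List.not_mem_nil, or_false] at hq
    rcases hq with rfl | rfl | rfl | rfl | rfl | rfl | rfl | rfl | rfl <;> norm_num
  · norm_num
  · decide
  · exact ab_of_not_cube (by norm_num) (by rw [card]; norm_num)
  · intro p hp q hq hpq
    simp only [List.mem_cons, List.not_mem_nil, or_false] at hp hq
    rcases hp with rfl | rfl
    · rcases hq with rfl | rfl | rfl | rfl | rfl | rfl | rfl | rfl | rfl
      · exact absurd rfl hpq
      · exact nc_three five_seven.1 (by norm_num) (by norm_num)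
      · exact nc_three five_seven.2 (by norm_num) (by norm_num)
      · exact (nc_eleven (q := 3) (a := 3) (by norm_num) (by norm_num) (by norm_num) (by norm_num)).symm
      · exact nc_three (e h23) (by norm_num) (by norm_num)
      · exact nc_three (e h29) (by norm_num) (by norm_num)
      · exact nc_three (e h31) (by norm_num) (by norm_num)
      · exact nc_three (e h37) (by norm_num) (by norm_num)
      · exact nc_three (e h43) (by norm_num) (by norm_num)
    · rcases hq with rfl | rfl | rfl | rfl | rfl | rfl | rfl | rfl | rfl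
      · exact nc_eleven (a := 3) (by norm_num) (by norm_num) (by norm_num) (by norm_num)
      · exact nc_eleven (a := 1) (by norm_num) (by norm_num) (by norm_num) (by norm_num)
      · exact nc_eleven (a := 1) (by norm_num) (by norm_num) (by norm_num) (by norm_num)
      · exact absurd rfl hpq
      · exact nc_eleven (a := 1) (by norm_num) (by norm_num) (by norm_num) (by norm_num)
      · exact nc_eleven (a := 1) (by norm_num) (by norm_num) (by norm_num) (by norm_num)
      · exact nc_eleven (a := 1) (by norm_num) (by norm_num) (by norm_num) (by norm_num)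
      · exact nc_eleven (a := 1) (by norm_num) (by norm_num) (by norm_num) (by norm_num)
      · exact nc_eleven (a := 1) (by norm_num) (by norm_num) (by norm_num) (by norm_num)
  · intro r hr
    simp only [List.mem_cons, List.not_mem_nil, or_false] at hr
    rcases hr with rfl | rfl | rfl | rfl | rfl
    · obtain ⟨x, h1, h2⟩ := h23
      exact ⟨x, h1, solv (by norm_num) h2⟩
    · obtain ⟨x, h1, h2⟩ := h29
      exact ⟨x, h1, solv (by norm_num) h2⟩
    · obtain ⟨x, h1, h2⟩ := h31
      exact ⟨x, h1, solv (by norm_num) h2⟩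
    · obtain ⟨x, h1, h2⟩ := h37
      exact ⟨x, h1, solv (by norm_num) h2⟩
    · obtain ⟨x, h1, h2⟩ := h43
      exact ⟨x, h1, solv (by norm_num) h2⟩
  · intro a ha
    exact absurd ha (by simp)
  · decide

/-- the row `J₄` -/
theorem row_j4 {G : Type*} [Group G] [Finite G] [IsSimpleGroup G] (h : Spor.IsoJ4 G) : Row G := by
  obtain ⟨e⟩ := h
  exact row.congr e.symm

end Cfsg.Agent.H865.NH.JFour
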